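import Mathlib
import Cfsg.Agent.Mrg.ParSys.Core
import Cfsg.Agent.Tits.ExtAux

/-!
# The square of a bipartite Coxeter element (task AA-COX)

`length_sq`: in an irreducible Coxeter group of rank at least two which is not of type `A₂`, the square of a bipartite
Coxeter element is reduced.
-/

set_option autoImplicit false
set_option linter.unusedSectionVars false

namespace Cfsg.Agent.H491.CoxSq

open CoxeterSystem Cfsg.Agent.Tits.Core Cfsg.Agent.Tits.Exchange Cfsg.Agent.Tits

variable {B W : Type*} [Group W] {M : CoxeterMatrix B} (cs : CoxeterSystem M W)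

local prefix:100 "s" => cs.simple
local prefix:100 "π" => cs.wordProd
local prefix:100 "ℓ" => cs.length

section basic

variable [Finite B]

theorem inj : Function.Injective cs.simple := ParSys.Words.simple_injective cs

theorem commute_iff {i j : B} (hij : i ≠ j) : Commute (s i) (s j) ↔ M i j = 2 := by
  constructor
  · intro h
    have h1 : (s i * s j) ^ 2 = 1 := by
      rw [h.mul_pow, cs.simple_sq, cs.simple_sq, one_mul]
    have h2 := orderOf_dvd_of_pow_eq_one h1
    rw [ParSys.Words.orderOf_eq cs i j] at h2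
    rcases (Nat.dvd_prime Nat.prime_two).1 h2 with h3 | h3
    · exact absurd h3 (M.off_diagonal i j hij)
    · exact h3
  · intro h
    have h1 := cs.simple_mul_simple_pow i j
    rw [h, pow_two] at h1
    have h2 : s i * s j = (s i * s j)⁻¹ := eq_inv_of_mul_eq_one_left h1
    rw [mul_inv_rev, cs.inv_simple, cs.inv_simple] at h2
    exact h2

theorem lt_mul_simple {J : Set B} {w : W} (hw : w ∈ WJ cs J) {i : B} (hi : i ∉ J) : ℓ w < ℓ (w * s i) := by
  rcases cs.length_mul_simple w i with h | h
  · omega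
  · exfalso
    apply hi
    refine Ext.mem_of_simple_mem_WJ (inj cs) (mem_WJ_of_nn cs hw ?_)
    rw [nn_eq_one_iff cs (cs.isReflection_simple i)]
    omega

theorem lt_simple_mul {J : Set B} {w : W} (hw : w ∈ WJ cs J) {i : B} (hi : i ∉ J) : ℓ w < ℓ (s i * w) := by
  have h := lt_mul_simple cs (inv_mem hw) hi
  rwa [← cs.length_inv (w⁻¹ * s i), mul_inv_rev, cs.inv_simple, inv_inv, cs.length_inv] at h

/-- the letters of a word -/
def St (l : List B) : Set B := {i | i ∈ l}

theorem prod_mem (l : List B) : π l ∈ WJ cs (St l) := wordProd_mem_WJ cs fun _ hi => hi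

theorem length_nodup {l : List B} (h : l.Nodup) : ℓ (π l) = l.length := by
  induction l with
  | nil => simp
  | cons i l ih =>
    rw [List.nodup_cons] at h
    have h1 := lt_simple_mul cs (prod_mem cs l) (i := i) h.1
    rw [cs.wordProd_cons, List.length_cons]
    have h2 := cs.length_simple_mul (π l) i
    have h3 := ih h.2
    omega

/-- pairwise commuting letters -/
def Com (l : List B) : Prop := ∀ i ∈ l, ∀ j ∈ l, Commute (s i) (s j)

variable {cs}

theorem Com.pairwise {l : List B} (h : Com cs l) : (l.map cs.simple).Pairwise Commute := by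
  rw [List.pairwise_map]
  exact List.pairwise_of_forall_mem_list fun i hi j hj => h i hi j hj

theorem Com.perm {l l' : List B} (h : Com cs l) (hp : l.Perm l') : π l = π l' := by
  unfold CoxeterSystem.wordProd
  exact (hp.map cs.simple).prod_eq' h.pairwise

theorem Com.of_subset {l l' : List B} (h : Com cs l) (hs : ∀ i ∈ l', i ∈ l) : Com cs l' :=
  fun i hi j hj => h i (hs i hi) j (hs j hj)

theorem commute_prod {l : List B} {i : B} (h : ∀ j ∈ l, Commute (s i) (s j)) : Commute (s i) (π l) := by
  induction l with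
  | nil => rw [cs.wordProd_nil]; exact Commute.one_right _
  | cons j l ih =>
    rw [cs.wordProd_cons]
    exact (h j (by simp)).mul_right (ih fun k hk => h k (by simp [hk]))

theorem Com.sq {l : List B} (h : Com cs l) : π l * π l = 1 := by
  induction l with
  | nil => simp
  | cons i l ih =>
    have h1 : Commute (s i) (π l) := commute_prod fun j hj => h i (by simp) j (by simp [hj])
    have h2 := ih (h.of_subset fun j hj => by simp [hj])
    rw [cs.wordProd_cons]
    calc s i * π l * (s i * π l) = s i * (π l * s i) * π l := by simp only [mul_assoc]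
      _ = s i * (s i * π l) * π l := by rw [← h1.eq]
      _ = (s i * s i) * (π l * π l) := by simp only [mul_assoc]
      _ = 1 := by rw [h2, cs.simple_mul_simple_self, one_mul]

theorem Com.inv {l : List B} (h : Com cs l) : (π l)⁻¹ = π l := inv_eq_of_mul_eq_one_left h.sq

theorem Com.erase [DecidableEq B] {l : List B} (h : Com cs l) {j : B} (hj : j ∈ l) :
    π l = π (l.erase j) * s j ∧ π l = s j * π (l.erase j) := by
  have h1 := h.perm (List.perm_cons_erase hj)
  rw [cs.wordProd_cons] at h1
  refine ⟨?_, h1⟩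
  rw [h1]
  exact (commute_prod fun k hk => h j hj k (List.mem_of_mem_erase hk)).eq

theorem eq_one_of_empty {w : W} (h : w ∈ WJ cs (∅ : Set B)) : w = 1 := by
  unfold WJ at h
  rw [Set.image_empty, Subgroup.closure_empty, Subgroup.mem_bot] at h
  exact h

/-- **Lemma A.** -/
theorem Com.commute_of_prod {l : List B} (h : Com cs l) (hn : l.Nodup) {i : B} (hi : i ∉ l)
    (he : π l * s i = s i * π l) : ∀ j ∈ l, Commute (s i) (s j) := by
  classical
  intro j hj
  obtain ⟨l', hl'⟩ : ∃ l', l' = l.erase j := ⟨_, rfl⟩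
  have hij : i ≠ j := fun h => hi (h ▸ hj)
  have h1 := (h.erase hj).1
  rw [← hl'] at h1
  have hlen : l'.length + 1 = l.length := by
    rw [hl', List.length_erase_of_mem hj]
    have := List.length_pos_of_mem hj
    omega
  have hn' : l'.Nodup := by rw [hl']; exact hn.erase j
  have hjl' : j ∉ l' := by rw [hl']; exact hn.not_mem_erase
  have hil' : i ∉ l' := by rw [hl']; exact fun h => hi (List.mem_of_mem_erase h)
  have hω : π (l' ++ [j, i]) = π l * s i := by
    rw [cs.wordProd_append, cs.wordProd_cons, cs.wordProd_singleton, h1, mul_assoc]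
  have hlω : ℓ (π (l' ++ [j, i])) = l'.length + 2 := by
    have h2 := lt_mul_simple cs (prod_mem cs l) (i := i) hi
    have h3 := cs.length_mul_simple (π l) i
    rw [length_nodup cs hn] at h2 h3
    rw [hω]
    omega
  have hlt : ℓ (π (l' ++ [j, i]) * s j) < ℓ (π (l' ++ [j, i])) := by
    rw [hlω, hω, he, h1]
    have h2 : s i * (π l' * s j) * s j = s i * π l' := by
      rw [mul_assoc, mul_assoc, cs.simple_mul_simple_self, mul_one]
    rw [h2]
    have h3 := cs.length_mul_le (s i) (π l')
    rw [cs.length_simple, length_nodup cs hn'] at h3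
    omega
  obtain ⟨k, hk, hke⟩ := exchange_right cs hlt
  rw [cs.wordProd_append, cs.wordProd_cons, cs.wordProd_singleton] at hke
  rw [List.length_append] at hk
  simp only [List.length_cons, List.length_nil] at hk
  rcases lt_or_ge k l'.length with hk1 | hk1
  · exfalso
    rw [List.eraseIdx_append_of_lt_length hk1, cs.wordProd_append, cs.wordProd_cons, cs.wordProd_singleton] at hke
    have h2 : (π l')⁻¹ * π (l'.eraseIdx k) = s j * s i * s j * s i * s j := by
      have h3 : π (l'.eraseIdx k) = π l' * (s j * s i) * s j * (s j * s i)⁻¹ := by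
        rw [hke]; group
      rw [h3, mul_inv_rev, cs.inv_simple, cs.inv_simple]
      group
    have h3 : (π l')⁻¹ * π (l'.eraseIdx k) ∈ WJ cs (St l' ∩ {i, j}) := by
      apply Ext.WJ_inter (inj cs)
      · exact mul_mem (inv_mem (prod_mem cs l')) (wordProd_mem_WJ cs fun a ha => List.mem_of_mem_eraseIdx ha)
      · rw [h2]
        have hi' : s i ∈ WJ cs {i, j} := simple_mem_WJ cs (by simp)
        have hj' : s j ∈ WJ cs {i, j} := simple_mem_WJ cs (by simp)
        exact mul_mem (mul_mem (mul_mem (mul_mem hj' hi') hj') hi') hj'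
    have h4 : St l' ∩ {i, j} = ∅ := by
      ext a
      simp only [St, Set.mem_inter_iff, Set.mem_ofPred_eq, Set.mem_insert_iff, Set.mem_singleton_iff,
        Set.mem_empty_iff_false, iff_false, not_and]
      rintro ha (rfl | rfl)
      · exact hil' ha
      · exact hjl' ha
    rw [h4] at h3
    have h5 := eq_one_of_empty h3
    have h6 : π (l'.eraseIdx k) = π l' := (inv_mul_eq_one.1 h5).symm
    have h7 := cs.length_wordProd_le (l'.eraseIdx k)
    rw [h6, length_nodup cs hn', List.length_eraseIdx_of_lt hk1] at h7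
    omega
  · rw [List.eraseIdx_append_of_length_le hk1, cs.wordProd_append] at hke
    obtain hk2 | hk2 : k - l'.length = 0 ∨ k - l'.length = 1 := by omega
    · rw [hk2] at hke
      simp only [List.eraseIdx_cons_zero, cs.wordProd_singleton] at hke
      have h2 : s j * s i * s j = s i := by
        have := hke
        rw [mul_assoc] at this
        exact mul_left_cancel this
      have h3 : s j * s i = s i * s j := by
        calc s j * s i = s j * s i * s j * s j := by rw [mul_assoc _ (s j) (s j), cs.simple_mul_simple_self, mul_one]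
          _ = s i * s j := by rw [h2]
      exact h3.symm
    · exfalso
      rw [hk2] at hke
      simp only [List.eraseIdx_cons_succ, List.eraseIdx_cons_zero, cs.wordProd_singleton] at hke
      have h2 : s j * s i * s j = s j := by
        have := hke
        rw [mul_assoc] at this
        exact mul_left_cancel this
      have h3 : s j * s i = 1 := by
        calc s j * s i = s j * s i * s j * s j := by rw [mul_assoc _ (s j) (s j), cs.simple_mul_simple_self, mul_one]
          _ = 1 := by rw [h2, cs.simple_mul_simple_self]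
      have h4 : s i = s j := by
        calc s i = s j * (s j * s i) := by rw [← mul_assoc, cs.simple_mul_simple_self, one_mul]
          _ = s j := by rw [h3, mul_one]
      exact hij (inj cs h4)

/-- **Lemma B.** -/
theorem commute_of_descent {l₁ l₂ : List B} (h₂ : Com cs l₂) (hn : (l₁ ++ l₂).Nodup) {i : B}
    (hi : i ∈ l₁) (hlt : ℓ (π l₁ * π l₂ * s i) < ℓ (π l₁ * π l₂)) : ∀ j ∈ l₂, Commute (s i) (s j) := by
  classical
  rw [List.nodup_append] at hn
  obtain ⟨hn1, hn2, hd⟩ := hn
  have hi2 : i ∉ l₂ := fun h => hd i hi i h rfl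
  rw [← cs.wordProd_append] at hlt
  obtain ⟨k, hk, hke⟩ := exchange_right cs hlt
  rw [cs.wordProd_append] at hke
  rcases lt_or_ge k l₁.length with hk1 | hk1
  · rw [List.eraseIdx_append_of_lt_length hk1, cs.wordProd_append] at hke
    obtain ⟨u, hu⟩ : ∃ u, u = (π l₁)⁻¹ * π (l₁.eraseIdx k) := ⟨_, rfl⟩
    have hu1 : π l₂ * s i = u * π l₂ := by
      rw [hu, mul_assoc, ← hke]; group
    have hu2 : u ∈ WJ cs (St l₁) := by
      rw [hu]
      exact mul_mem (inv_mem (prod_mem cs l₁)) (wordProd_mem_WJ cs fun a ha => List.mem_of_mem_eraseIdx ha)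
    have hmin : IsMinL cs (St l₁) (π l₂) := by
      rw [isMinL_iff]
      intro a ha
      exact lt_simple_mul cs (prod_mem cs l₂) fun h => hd a ha a h rfl
    have h3 := hmin u hu2
    rw [← hu1] at h3
    have h4 := lt_mul_simple cs (prod_mem cs l₂) (i := i) hi2
    have h5 := cs.length_mul_simple (π l₂) i
    have h6 : ℓ u = 1 := by omega
    obtain ⟨m, hm⟩ := cs.length_eq_one_iff.1 h6
    have h7 : i ∈ insert m (St l₂) := by
      refine Ext.mem_of_simple_mem_WJ (inj cs) ?_
      have h8 : s i = (π l₂)⁻¹ * s m * π l₂ := by rw [← hm, mul_assoc, ← hu1]; group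
      rw [h8]
      have h9 := WJ_mono cs (Set.subset_insert m (St l₂)) (prod_mem cs l₂)
      exact mul_mem (mul_mem (inv_mem h9) (simple_mem_WJ cs (Set.mem_insert _ _))) h9
    rcases Set.mem_insert_iff.1 h7 with h8 | h8
    · rw [hm, ← h8] at hu1
      exact h₂.commute_of_prod hn2 hi2 hu1
    · exact absurd h8 hi2
  · exfalso
    rw [List.eraseIdx_append_of_length_le hk1, cs.wordProd_append, mul_assoc] at hke
    have h3 := mul_left_cancel hke
    apply hi2
    refine Ext.mem_of_simple_mem_WJ (inj cs) (J := St l₂) ?_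
    have h4 : s i = (π l₂)⁻¹ * π (l₂.eraseIdx (k - l₁.length)) := by rw [← h3]; group
    rw [h4]
    exact mul_mem (inv_mem (prod_mem cs l₂)) (wordProd_mem_WJ cs fun a ha => List.mem_of_mem_eraseIdx ha)

/-- **Lemma D.** -/
theorem Com.commute_of_conj {l : List B} (h : Com cs l) (hn : l.Nodup) {t σ : B} (ht : t ∉ l) (hσ : σ ∈ l)
    (hz : π l * s t * (π l)⁻¹ ∈ WJ cs {σ, t}) : ∀ j ∈ l, j ≠ σ → Commute (s t) (s j) := by
  classical
  obtain ⟨l', hl'⟩ : ∃ l', l' = l.erase σ := ⟨_, rfl⟩
  have h1 := (h.erase hσ).2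
  rw [← hl'] at h1
  have hn' : l'.Nodup := by rw [hl']; exact hn.erase σ
  have hσ' : σ ∉ l' := by rw [hl']; exact hn.not_mem_erase
  have ht' : t ∉ l' := by rw [hl']; exact fun h => ht (List.mem_of_mem_erase h)
  have hσJ : s σ ∈ WJ cs {σ, t} := simple_mem_WJ cs (by simp)
  obtain ⟨z, hzd⟩ : ∃ z, z = π l' * s t * (π l')⁻¹ := ⟨_, rfl⟩
  have hz' : z ∈ WJ cs {σ, t} := by
    have h2 : z = s σ * (π l * s t * (π l)⁻¹) * s σ := by
      rw [hzd, h1, mul_inv_rev, cs.inv_simple]
      calc π l' * s t * (π l')⁻¹ = (s σ * s σ) * (π l' * s t * (π l')⁻¹) * (s σ * s σ) := by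
            rw [cs.simple_mul_simple_self, one_mul, mul_one]
        _ = _ := by simp only [mul_assoc]
    rw [h2]
    exact mul_mem (mul_mem hσJ hz) hσJ
  have hmin : IsMinL cs {σ, t} (π l') := by
    rw [isMinL_iff]
    rintro a (rfl | rfl)
    · exact lt_simple_mul cs (prod_mem cs l') hσ'
    · exact lt_simple_mul cs (prod_mem cs l') ht'
  have h2 := hmin z hz'
  have h3 : z * π l' = π l' * s t := by rw [hzd]; group
  rw [h3] at h2
  have h4 := lt_mul_simple cs (prod_mem cs l') (i := t) ht'
  have h5 := cs.length_mul_simple (π l') t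
  have h6 : ℓ z = 1 := by omega
  rcases Generic.mem_two cs hz' h6 with h7 | h7
  · exfalso
    apply ht
    refine Ext.mem_of_simple_mem_WJ (inj cs) (J := St l) ?_
    have h8 : s t = (π l')⁻¹ * s σ * π l' := by rw [← h7, mul_assoc, h3]; group
    rw [h8]
    have h9 : π l' ∈ WJ cs (St l) := wordProd_mem_WJ cs fun a ha => by
      rw [hl'] at ha; exact List.mem_of_mem_erase ha
    exact mul_mem (mul_mem (inv_mem h9) (simple_mem_WJ cs hσ)) h9
  · intro j hj hjσ
    rw [h7] at h3
    refine (h.of_subset (l' := l') fun a ha => ?_).commute_of_prod hn' ht' h3.symm j ?_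
    · rw [hl'] at ha; exact List.mem_of_mem_erase ha
    · rw [hl', List.mem_erase_of_ne hjσ]; exact hj

/-- `w₁ w₂` is minimal in its coset `w₁ w₂ W₁`. -/
theorem isMinR_prod {l₁ l₂ : List B} (h₂ : Com cs l₂) (hn : (l₁ ++ l₂).Nodup)
    (hno : ∀ i ∈ l₁, ∃ j ∈ l₂, ¬ Commute (s i) (s j)) : IsMinR cs (St l₁) (π l₁ * π l₂) := by
  rw [isMinR_iff]
  intro i hi
  obtain ⟨j, hj, hij⟩ := hno i hi
  rcases cs.length_mul_simple (π l₁ * π l₂) i with h | h
  · omega
  · exact absurd (commute_of_descent h₂ hn hi (by omega) j hj) hij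

/-- **The square of a bipartite Coxeter element**, elementwise form: the commuting words `l₁`, `l₂` are such that every
letter of one does not commute with some letter of the other, and there are no `σ ∈ l₁`, `t ∈ l₂` which commute with all
letters except each other and satisfy `σ t σ = t σ t`. -/
theorem length_sq_aux {l₁ l₂ : List B} (h₁ : Com cs l₁) (h₂ : Com cs l₂) (hn : (l₁ ++ l₂).Nodup)
    (hno₁ : ∀ i ∈ l₁, ∃ j ∈ l₂, ¬ Commute (s i) (s j)) (hno₂ : ∀ i ∈ l₂, ∃ j ∈ l₁, ¬ Commute (s i) (s j))
    (hne : ∀ σ ∈ l₁, ∀ t ∈ l₂, (∀ j ∈ l₁, j ≠ σ → Commute (s t) (s j)) → (∀ j ∈ l₂, j ≠ t → Commute (s σ) (s j)) →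
      s σ * s t * s σ ≠ s t * s σ * s t) :
    ℓ (π (l₁ ++ l₂) ^ 2) = 2 * (l₁.length + l₂.length) := by
  classical
  have hn' := hn
  rw [List.nodup_append] at hn'
  obtain ⟨hn1, hn2, hd⟩ := hn'
  have hn21 : (l₂ ++ l₁).Nodup := by
    rw [List.nodup_append]
    exact ⟨hn2, hn1, fun a ha b hb h => hd b hb a ha h.symm⟩
  have hm12 := isMinR_prod h₂ hn hno₁
  have hm21 := isMinR_prod h₁ hn21 hno₂
  have hl1 := length_nodup cs hn1
  have hl2 := length_nodup cs hn2
  have hl12 : ℓ (π l₁ * π l₂) = l₁.length + l₂.length := by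
    rw [← cs.wordProd_append, length_nodup cs hn, List.length_append]
  have hl21 : ℓ (π l₂ * π l₁) = l₂.length + l₁.length := by
    rw [← cs.wordProd_append, length_nodup cs hn21, List.length_append]
  have hx : ℓ (π l₁ * π l₂ * π l₁) = l₁.length + l₂.length + l₁.length := by
    rw [hm12 _ (prod_mem cs l₁), hl12, hl1]
  have hmx : IsMinR cs (St l₂) (π l₁ * π l₂ * π l₁) := by
    rw [isMinR_iff]
    intro t ht
    have htl1 : t ∉ l₁ := fun h => hd t h t ht rfl
    rcases cs.length_mul_simple (π l₁ * π l₂ * π l₁) t with h | h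
    · omega
    exfalso
    have hω : π (l₁ ++ (l₂ ++ l₁)) = π l₁ * π l₂ * π l₁ := by
      rw [cs.wordProd_append, cs.wordProd_append, mul_assoc]
    have hlt : ℓ (π (l₁ ++ (l₂ ++ l₁)) * s t) < ℓ (π (l₁ ++ (l₂ ++ l₁))) := by
      rw [hω]; omega
    obtain ⟨k, hk, hke⟩ := exchange_right cs hlt
    rw [hω] at hke
    rcases lt_or_ge k l₁.length with hk1 | hk1
    · rw [List.eraseIdx_append_of_lt_length hk1, cs.wordProd_append, cs.wordProd_append] at hke
      -- the erased letter
      have hperm : (l₁[k] :: l₁.eraseIdx k).Perm l₁ := List.getElem_cons_eraseIdx_perm hk1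
      have hσ : l₁[k] ∈ l₁ := List.getElem_mem hk1
      obtain ⟨σ, hσd⟩ : ∃ σ, σ = l₁[k] := ⟨_, rfl⟩
      rw [← hσd] at hperm hσ
      have h3 : π l₁ = s σ * π (l₁.eraseIdx k) := by
        rw [h₁.perm hperm.symm, cs.wordProd_cons]
      have h4 : Commute (s σ) (π (l₁.eraseIdx k)) :=
        commute_prod fun j hj => h₁ σ hσ j (List.mem_of_mem_eraseIdx hj)
      have h5 : π (l₁.eraseIdx k) = π l₁ * s σ := by
        rw [h3, h4.eq, mul_assoc, cs.simple_mul_simple_self, mul_one]
      rw [h5] at hke
      -- `y t = σ y`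
      have h6 : π l₂ * π l₁ * s t = s σ * (π l₂ * π l₁) := by
        have h7 : π l₁ * (π l₂ * π l₁ * s t) = π l₁ * (s σ * (π l₂ * π l₁)) := by
          rw [← mul_assoc, ← mul_assoc, hke]; simp only [mul_assoc]
        exact mul_left_cancel h7
      have h7 : π l₁ * s t * (π l₁)⁻¹ = π l₂ * s σ * (π l₂)⁻¹ := by
        have h8 : π l₁ * s t = (π l₂)⁻¹ * (s σ * (π l₂ * π l₁)) := by rw [← h6]; group
        rw [h8, h₂.inv]; group
      have hσl2 : σ ∉ l₂ := fun h => hd σ hσ σ h rfl
      have hz : π l₁ * s t * (π l₁)⁻¹ ∈ WJ cs {σ, t} := by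
        have h8 : π l₁ * s t * (π l₁)⁻¹ ∈ WJ cs (insert t (St l₁) ∩ insert σ (St l₂)) := by
          apply Ext.WJ_inter (inj cs)
          · have h9 := WJ_mono cs (Set.subset_insert t (St l₁)) (prod_mem cs l₁)
            exact mul_mem (mul_mem h9 (simple_mem_WJ cs (Set.mem_insert _ _))) (inv_mem h9)
          · rw [h7]
            have h9 := WJ_mono cs (Set.subset_insert σ (St l₂)) (prod_mem cs l₂)
            exact mul_mem (mul_mem h9 (simple_mem_WJ cs (Set.mem_insert _ _))) (inv_mem h9)
        refine WJ_mono cs ?_ h8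
        rintro a ⟨ha1, ha2⟩
        rcases Set.mem_insert_iff.1 ha1 with ha1 | ha1
        · right; exact ha1
        · rcases Set.mem_insert_iff.1 ha2 with ha2 | ha2
          · left; exact ha2
          · exact absurd rfl (hd a ha1 a ha2)
      have hA := h₁.commute_of_conj hn1 htl1 hσ hz
      have hB := h₂.commute_of_conj hn2 hσl2 ht (by rw [← h7, Set.pair_comm]; exact hz)
      refine hne σ hσ t ht hA hB ?_
      -- reduce `π l₁ t (π l₁)⁻¹ = π l₂ σ (π l₂)⁻¹` to `σ t σ = t σ t`
      have e1 : π l₁ * s t * (π l₁)⁻¹ = s σ * s t * s σ := by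
        have f1 := (h₁.erase hσ).2
        have f2 : Commute (s t) (π (l₁.erase σ)) := commute_prod fun j hj =>
          hA j (List.mem_of_mem_erase hj) fun h => hn1.not_mem_erase (h ▸ hj)
        rw [f1, mul_inv_rev, cs.inv_simple]
        calc s σ * π (l₁.erase σ) * s t * ((π (l₁.erase σ))⁻¹ * s σ)
            = s σ * (π (l₁.erase σ) * s t) * (π (l₁.erase σ))⁻¹ * s σ := by simp only [mul_assoc]
          _ = s σ * (s t * π (l₁.erase σ)) * (π (l₁.erase σ))⁻¹ * s σ := by rw [f2.eq]
          _ = s σ * s t * s σ := by group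
      have e2 : π l₂ * s σ * (π l₂)⁻¹ = s t * s σ * s t := by
        have f1 := (h₂.erase ht).2
        have f2 : Commute (s σ) (π (l₂.erase t)) := commute_prod fun j hj =>
          hB j (List.mem_of_mem_erase hj) fun h => hn2.not_mem_erase (h ▸ hj)
        rw [f1, mul_inv_rev, cs.inv_simple]
        calc s t * π (l₂.erase t) * s σ * ((π (l₂.erase t))⁻¹ * s t)
            = s t * (π (l₂.erase t) * s σ) * (π (l₂.erase t))⁻¹ * s t := by simp only [mul_assoc]
          _ = s t * (s σ * π (l₂.erase t)) * (π (l₂.erase t))⁻¹ * s t := by rw [f2.eq]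
          _ = s t * s σ * s t := by group
      rw [← e1, h7, e2]
    · rw [List.eraseIdx_append_of_length_le hk1, cs.wordProd_append, mul_assoc, mul_assoc] at hke
      have h3 := mul_left_cancel hke
      rw [← mul_assoc] at h3
      have h4 := hm21 (s t) (simple_mem_WJ cs ht)
      rw [cs.length_simple, hl21, h3] at h4
      have h5 := cs.length_wordProd_le ((l₂ ++ l₁).eraseIdx (k - l₁.length))
      have h6 := List.length_eraseIdx_le (l₂ ++ l₁) (k - l₁.length)
      rw [List.length_append] at h6
      omega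
  have h1 : π (l₁ ++ l₂) ^ 2 = π l₁ * π l₂ * π l₁ * π l₂ := by
    rw [pow_two, cs.wordProd_append]; simp only [mul_assoc]
  rw [h1, hmx _ (prod_mem cs l₂), hx, hl2]
  ring

end basic

/-- **The square of a bipartite Coxeter element** of an irreducible Coxeter group of rank at least two which is not of type
`A₂` is reduced. -/
theorem length_sq {B W : Type*} [Fintype B] [DecidableEq B] [Group W] {M : CoxeterMatrix B} (cs : CoxeterSystem M W)
    (l1 l2 : List B) (hnd : (l1 ++ l2).Nodup) (hall : ∀ i, i ∈ l1 ++ l2)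
    (h1 : ∀ i ∈ l1, ∀ j ∈ l1, i ≠ j → M i j = 2) (h2 : ∀ i ∈ l2, ∀ j ∈ l2, i ≠ j → M i j = 2)
    (hconn : ∀ S : Set B, S.Nonempty → S ≠ Set.univ → ∃ i ∈ S, ∃ j ∉ S, M i j ≠ 2)
    (hne : ¬ ∃ i j, M i j = 3 ∧ ∀ k, k = i ∨ k = j) (h2' : 2 ≤ Fintype.card B) :
    cs.length ((cs.wordProd (l1 ++ l2)) ^ 2) = 2 * Fintype.card B := by
  have hn' := hnd
  rw [List.nodup_append] at hn'
  obtain ⟨hn1, hn2, hd⟩ := hn'
  have hC1 : Com cs l1 := fun i hi j hj => by
    by_cases hij : i = j
    · rw [hij]
    · exact (commute_iff cs hij).2 (h1 i hi j hj hij)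
  have hC2 : Com cs l2 := fun i hi j hj => by
    by_cases hij : i = j
    · rw [hij]
    · exact (commute_iff cs hij).2 (h2 i hi j hj hij)
  have hone : ∀ i : B, ∃ j, i ≠ j ∧ M i j ≠ 2 := by
    intro i
    obtain ⟨a, ha, b, hb, hab⟩ := hconn {i} ⟨i, rfl⟩ (by
      intro h
      have h3 : Fintype.card B ≤ 1 := Fintype.card_le_one_iff.2 fun a b => by
        have ha : a ∈ ({i} : Set B) := by rw [h]; trivial
        have hb : b ∈ ({i} : Set B) := by rw [h]; trivial
        rw [Set.mem_singleton_iff] at ha hb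
        rw [ha, hb]
      omega)
    rw [Set.mem_singleton_iff] at ha hb
    subst ha
    exact ⟨b, fun h => hb h.symm, hab⟩
  have hcard : Fintype.card B = l1.length + l2.length := by
    rw [← List.length_append, ← List.toFinset_card_of_nodup hnd, ← Finset.card_univ]
    congr 1
    ext i
    rw [List.mem_toFinset]
    exact ⟨fun _ => hall i, fun _ => Finset.mem_univ i⟩
  rw [hcard]
  refine length_sq_aux hC1 hC2 hnd ?_ ?_ ?_
  · intro i hi
    obtain ⟨j, hij, hM⟩ := hone i
    rcases List.mem_append.1 (hall j) with hj | hj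
    · exact absurd (h1 i hi j hj hij) hM
    · exact ⟨j, hj, fun h => hM ((commute_iff cs hij).1 h)⟩
  · intro i hi
    obtain ⟨j, hij, hM⟩ := hone i
    rcases List.mem_append.1 (hall j) with hj | hj
    · exact ⟨j, hj, fun h => hM ((commute_iff cs hij).1 h)⟩
    · exact absurd (h2 i hi j hj hij) hM
  · intro σ hσ t ht hA hB he
    have hσt : σ ≠ t := hd σ hσ t ht
    have huniv : ∀ k, k = σ ∨ k = t := by
      by_contra hcon
      obtain ⟨a, ha, b, hb, hab⟩ := hconn {σ, t} ⟨σ, by simp⟩ (by
        intro h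
        apply hcon
        intro k
        have hk : k ∈ ({σ, t} : Set B) := by rw [h]; trivial
        simpa using hk)
      simp only [Set.mem_insert_iff, Set.mem_singleton_iff, not_or] at ha hb
      rcases ha with rfl | rfl
      · rcases List.mem_append.1 (hall b) with hj | hj
        · exact hab (h1 a hσ b hj (Ne.symm hb.1))
        · exact hab ((commute_iff cs (Ne.symm hb.1)).1 (hB b hj hb.2))
      · rcases List.mem_append.1 (hall b) with hj | hj
        · exact hab ((commute_iff cs (Ne.symm hb.2)).1 (hA b hj hb.1))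
        · exact hab (h2 a ht b hj (Ne.symm hb.2))
    apply hne
    refine ⟨σ, t, ?_, huniv⟩
    have h3 : (cs.simple σ * cs.simple t) ^ 3 = 1 := by
      calc (cs.simple σ * cs.simple t) ^ 3 = (cs.simple σ * cs.simple t * cs.simple σ) * (cs.simple t * cs.simple σ * cs.simple t) := by
            rw [pow_succ, pow_two]; simp only [mul_assoc]
        _ = (cs.simple t * cs.simple σ * cs.simple t) * (cs.simple t * cs.simple σ * cs.simple t) := by rw [he]
        _ = cs.simple t * (cs.simple σ * (cs.simple t * cs.simple t) * cs.simple σ) * cs.simple t := by simp only [mul_assoc]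
        _ = 1 := by rw [cs.simple_mul_simple_self, mul_one, cs.simple_mul_simple_self, mul_one,
            cs.simple_mul_simple_self]
    have h4 := orderOf_dvd_of_pow_eq_one h3
    rw [ParSys.Words.orderOf_eq cs σ t] at h4
    rcases (Nat.dvd_prime Nat.prime_three).1 h4 with h5 | h5
    · exact absurd h5 (M.off_diagonal σ t hσt)
    · exact h5

end Cfsg.Agent.H491.CoxSq
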