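import Mathlib
import Cfsg.Agent.H460.AADef
import Cfsg.Agent.H256.RowAlt
import Cfsg.Agent.S1323

/-!
# The `AA` problem: alternating groups (task AA-ALT)
-/

set_option autoImplicit false

namespace Cfsg.Agent.H491.AA

open Cfsg Cfsg.Agent Cfsg.Agent.H460.AA Cfsg.Agent.H459.Rad Subgroup Equiv Equiv.Perm

theorem ais {α : Type*} (a : Perm α) (x : α) : a (a⁻¹ x) = x := Equiv.apply_symm_apply a x

theorem ias {α : Type*} (a : Perm α) (x : α) : a⁻¹ (a x) = x := Equiv.symm_apply_apply a x

/-- an element with `RC` acts trivially on every invariant set of size at least five -/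
theorem fix_of_RC {n : ℕ} {a : alternatingGroup (Fin n)} (h : RC (MulAut.conj a)) {Δ : Finset (Fin n)}
    (h5 : 5 ≤ Δ.card) (hn : Δ.card < n) (hinv : ∀ x ∈ Δ, (a : Perm (Fin n)) x ∈ Δ) :
    ∀ x ∈ Δ, (a : Perm (Fin n)) x = x := by
  classical
  obtain ⟨M, hM⟩ : ∃ M, M = (alternatingGroup.ofSubtype Δ).range := ⟨_, rfl⟩
  have hmem : ∀ k : alternatingGroup (Fin n), k ∈ M ↔ (k : Perm (Fin n)).support ⊆ Δ := fun k => by
    rw [hM]; exact alternatingGroup.mem_range_ofSubtype_iff Δ k
  -- three-cycles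
  have h3 : ∀ x y z : Fin n, x ≠ y → y ≠ z → sign (swap x y * swap y z) = 1 := by
    intro x y z hxy hyz
    rw [Perm.sign_mul, sign_swap hxy, sign_swap hyz]; rfl
  have hMtop : M ≠ ⊤ := by
    intro h1
    obtain ⟨y, hy⟩ : ∃ y, y ∉ Δ := by
      by_contra hcon
      push Not at hcon
      have h2 : Δ = Finset.univ := Finset.eq_univ_iff_forall.2 hcon
      rw [h2, Finset.card_univ, Fintype.card_fin] at hn
      exact lt_irrefl _ hn
    obtain ⟨x, z, hx, hz, hxz⟩ := Finset.one_lt_card_iff.1 (show 1 < Δ.card by omega)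
    have hyx : y ≠ x := fun h => hy (h ▸ hx)
    have hyz : y ≠ z := fun h => hy (h ▸ hz)
    have h2 := (hmem ⟨swap y x * swap x z, mem_alternatingGroup.2 (h3 y x z hyx hxz)⟩).1 (by rw [h1]; exact mem_top _)
    apply hy
    apply h2
    rw [mem_support]
    change (swap y x * swap x z) y ≠ y
    rw [Perm.mul_apply, swap_apply_of_ne_of_ne hyx hyz, swap_apply_left]
    exact hyx.symm
  have hinvM : ∀ m ∈ M, MulAut.conj a m ∈ M := by
    intro m hm
    rw [hmem] at hm ⊢
    intro z hz
    rw [mem_support] at hz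
    have h1 : (a : Perm (Fin n))⁻¹ z ∈ Δ := by
      apply hm
      rw [mem_support]
      intro h2
      apply hz
      change ((a : Perm (Fin n)) * m * (a : Perm (Fin n))⁻¹) z = z
      rw [Perm.mul_apply, Perm.mul_apply, h2, ais]
    have h2 := hinv _ h1
    rwa [ais] at h2
  have hq : IsQuasisimple M := by
    rw [hM]
    exact S1323.isQuasisimple_of_mulEquiv_alternating (α := Δ) (by simpa using h5)
      (MonoidHom.ofInjective alternatingGroup.ofSubtype_injective)
  have hcent : ∀ m ∈ M, a * m * a⁻¹ = m := fun m hm => h.eq_of_quasisimple hMtop hinvM hq hm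
  intro x hx
  by_contra hax
  obtain ⟨y, hy⟩ : ((Δ.erase x).erase ((a : Perm (Fin n)) x)).Nonempty := by
    rw [← Finset.card_pos, Finset.card_erase_of_mem (Finset.mem_erase.2 ⟨hax, hinv x hx⟩), Finset.card_erase_of_mem hx]
    omega
  obtain ⟨z, hz⟩ : (((Δ.erase x).erase ((a : Perm (Fin n)) x)).erase y).Nonempty := by
    rw [← Finset.card_pos, Finset.card_erase_of_mem hy, Finset.card_erase_of_mem (Finset.mem_erase.2 ⟨hax, hinv x hx⟩),
      Finset.card_erase_of_mem hx]
    omega
  simp only [Finset.mem_erase] at hy hz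
  obtain ⟨hy1, hy2, hy3⟩ := hy
  obtain ⟨hz1, hz2, hz3, hz4⟩ := hz
  obtain ⟨m, hm⟩ : ∃ m : alternatingGroup (Fin n), (m : Perm (Fin n)) = swap ((a : Perm (Fin n)) x) y * swap y z :=
    ⟨⟨_, mem_alternatingGroup.2 (h3 _ _ _ (Ne.symm hy1) (Ne.symm hz1))⟩, rfl⟩
  have hmM : m ∈ M := by
    rw [hmem, hm]
    intro w hw
    rw [mem_support, Perm.mul_apply] at hw
    by_contra hwΔ
    apply hw
    have e1 : w ≠ y := fun h => hwΔ (h ▸ hy3)
    have e2 : w ≠ z := fun h => hwΔ (h ▸ hz4)
    have e3 : w ≠ (a : Perm (Fin n)) x := fun h => hwΔ (h ▸ hinv x hx)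
    rw [swap_apply_of_ne_of_ne e1 e2, swap_apply_of_ne_of_ne e3 e1]
  have h1 := congrArg (fun g : alternatingGroup (Fin n) => (g : Perm (Fin n)) ((a : Perm (Fin n)) x)) (hcent m hmM)
  simp only [Subgroup.coe_mul, InvMemClass.coe_inv, Perm.mul_apply, ias] at h1
  rw [hm, Perm.mul_apply, swap_apply_of_ne_of_ne (Ne.symm hy2) (Ne.symm hz3), swap_apply_of_ne_of_ne (Ne.symm hax)
    (Ne.symm hy2), Perm.mul_apply, swap_apply_of_ne_of_ne (Ne.symm hy1) (Ne.symm hz2), swap_apply_left] at h1
  exact hy1 h1.symm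

/-- a `p`-element of the symmetric group of degree `p` with a fixed point is trivial -/
theorem eq_one_of_fixed {p : ℕ} [hp : Fact p.Prime] {b : Perm (Fin p)} (hb : PE p b) {x : Fin p} (hx : b x = x) : b = 1 := by
  classical
  obtain ⟨k, hk⟩ := PE.pow_eq_one_iff.1 hb
  obtain ⟨F, hF⟩ : ∃ F : Function.End (Fin p), F = (b : Fin p → Fin p) := ⟨_, rfl⟩
  have hk' : F ^ p ^ k = 1 := by
    rw [hF]
    funext y
    change (b^[p ^ k]) y = y
    rw [Equiv.Perm.iterate_eq_pow, hk]; rfl
  have h1 : Fintype.card (Fin p) ≡ Fintype.card (Function.fixedPoints b) [MOD p] := by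
    have h0 := Equiv.Perm.card_fixedPoints_modEq hk'
    subst hF
    convert h0
  rw [Fintype.card_fin] at h1
  have h2 : p ∣ Fintype.card (Function.fixedPoints b) := by
    rw [← Nat.modEq_zero_iff_dvd]
    exact h1.symm.trans ((Nat.modEq_zero_iff_dvd).2 dvd_rfl)
  have h3 : 0 < Fintype.card (Function.fixedPoints b) := Fintype.card_pos_iff.2 ⟨⟨x, hx⟩⟩
  have h4 := Nat.le_of_dvd h3 h2
  have h5 : Fintype.card (Function.fixedPoints b) = Fintype.card (Fin p) := by
    apply le_antisymm
    · exact Fintype.card_subtype_le _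
    · rw [Fintype.card_fin]; exact h4
  ext y
  rw [Perm.one_apply]
  congr 1
  by_contra hy
  have h6 : Fintype.card (Function.fixedPoints b) < Fintype.card (Fin p) :=
    Fintype.card_subtype_lt (p := fun y => y ∈ Function.fixedPoints b) (x := y) hy
  omega

section moved

variable {n p : ℕ} [hp : Fact p.Prime] {a : Perm (Fin n)}

theorem period (ha : orderOf a = p) {x : Fin n} (hx : a x ≠ x) : Function.minimalPeriod a x = p := by
  have h1 : a ^ p = 1 := by rw [← ha]; exact pow_orderOf_eq_one a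
  have h2 : Function.IsPeriodicPt a p x := by
    have : (a ^ p) x = x := by rw [h1]; rfl
    rwa [← Equiv.Perm.iterate_eq_pow] at this
  rcases (Nat.dvd_prime hp.out).1 h2.minimalPeriod_dvd with h3 | h3
  · rw [Function.minimalPeriod_eq_one_iff_isFixedPt] at h3
    exact absurd h3 hx
  · exact h3

theorem pow_apply_ne (ha : orderOf a = p) {x : Fin n} (hx : a x ≠ x) {i j : ℕ} (hij : i < j) (hjp : j - i < p) :
    (a ^ j) x ≠ (a ^ i) x := by
  intro h
  have h1 : (a ^ (j - i)) x = x := by
    apply (a ^ i).injective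
    rw [← Perm.mul_apply, ← pow_add, Nat.add_sub_cancel' hij.le]
    exact h
  have h2 : Function.IsPeriodicPt a (j - i) x := by rwa [← Equiv.Perm.iterate_eq_pow] at h1
  have h3 := h2.minimalPeriod_dvd
  rw [period ha hx] at h3
  have := Nat.le_of_dvd (by omega) h3
  omega

theorem exists_orbit (ha : orderOf a = p) {x : Fin n} (hx : a x ≠ x) :
    ∃ Δ : Finset (Fin n), Δ.card = p ∧ x ∈ Δ ∧ ∀ y, y ∈ Δ ↔ a y ∈ Δ := by
  classical
  refine ⟨(Finset.range p).image fun i => (a ^ i) x, ?_, ?_, ?_⟩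
  · rw [Finset.card_image_of_injOn, Finset.card_range]
    intro i hi j hj hij
    simp only [Finset.coe_range, Set.mem_Iio] at hi hj
    rcases lt_trichotomy i j with h | h | h
    · exact absurd hij.symm (pow_apply_ne ha hx h (by omega))
    · exact h
    · exact absurd hij (pow_apply_ne ha hx h (by omega))
  · exact Finset.mem_image.2 ⟨0, Finset.mem_range.2 hp.out.pos, rfl⟩
  · have h1 : a ^ p = 1 := by rw [← ha]; exact pow_orderOf_eq_one a
    have key : ∀ y, y ∈ (Finset.range p).image (fun i => (a ^ i) x) ↔ ∃ i : ℕ, (a ^ i) x = y := by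
      intro y
      rw [Finset.mem_image]
      constructor
      · rintro ⟨i, -, h⟩; exact ⟨i, h⟩
      · rintro ⟨i, h⟩
        refine ⟨i % p, Finset.mem_range.2 (Nat.mod_lt _ hp.out.pos), ?_⟩
        rw [← h]
        have : a ^ i = a ^ (i % p) := by
          conv_lhs => rw [← Nat.div_add_mod i p, pow_add, pow_mul, h1, one_pow, one_mul]
        rw [this]
    intro y
    rw [key, key]
    constructor
    · rintro ⟨i, rfl⟩; exact ⟨i + 1, by rw [pow_succ']; rfl⟩
    · rintro ⟨i, h⟩
      refine ⟨i + (p - 1), a.injective ?_⟩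
      rw [← h, ← Perm.mul_apply, ← pow_succ']
      have : i + (p - 1) + 1 = i + p := by have := hp.out.pos; omega
      rw [this, pow_add, h1, mul_one]

/-- `p`-cycles in `A_p`, `p ≥ 5` -/
theorem cycle_case {a : Perm (Fin p)} (ha : orderOf a = p) (h5 : 5 ≤ p) {w : Fin p} (hw : a w ≠ w) :
    ∃ g ∈ alternatingGroup (Fin p), ¬ PE p (a * (g * a * g⁻¹)) := by
  obtain ⟨y, hy⟩ : ∃ y : ℕ → Fin p, ∀ i, y i = (a ^ i) w := ⟨fun i => (a ^ i) w, fun i => rfl⟩
  have hay : ∀ i, a (y i) = y (i + 1) := fun i => by rw [hy, hy, pow_succ']; rfl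
  have hne : ∀ i j, i < j → j - i < p → y j ≠ y i := fun i j hij hjp => by
    rw [hy, hy]; exact pow_apply_ne ha hw hij hjp
  have h31 : y 3 ≠ y 1 := hne 1 3 (by omega) (by omega)
  have h10 : y 1 ≠ y 0 := hne 0 1 (by omega) (by omega)
  have h30 : y 3 ≠ y 0 := hne 0 3 (by omega) (by omega)
  have h20 : y 2 ≠ y 0 := hne 0 2 (by omega) (by omega)
  have h21 : y 2 ≠ y 1 := hne 1 2 (by omega) (by omega)
  have h32 : y 3 ≠ y 2 := hne 2 3 (by omega) (by omega)
  have h40 : y 4 ≠ y 0 := hne 0 4 (by omega) (by omega)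
  have h41 : y 4 ≠ y 1 := hne 1 4 (by omega) (by omega)
  have h43 : y 4 ≠ y 3 := hne 3 4 (by omega) (by omega)
  have h51 : y 5 ≠ y 1 := hne 1 5 (by omega) (by omega)
  refine ⟨swap (y 3) (y 1) * swap (y 1) (y 0), ?_, ?_⟩
  · rw [mem_alternatingGroup, Perm.sign_mul, sign_swap h31, sign_swap h10]; rfl
  · intro hPE
    have hinv : (swap (y 3) (y 1) * swap (y 1) (y 0))⁻¹ = swap (y 1) (y 0) * swap (y 3) (y 1) := by
      rw [mul_inv_rev, swap_inv, swap_inv]
    rw [hinv] at hPE
    have h1 := eq_one_of_fixed hPE (x := y 2) (by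
      simp only [Perm.mul_apply]
      rw [swap_apply_of_ne_of_ne h32.symm h21, swap_apply_of_ne_of_ne h21 h20, hay 2,
        swap_apply_of_ne_of_ne h31 h30, swap_apply_left, hay 1])
    have h2 : (a * (swap (y 3) (y 1) * swap (y 1) (y 0) * a * (swap (y 1) (y 0) * swap (y 3) (y 1)))) (y 1) = y 5 := by
      simp only [Perm.mul_apply]
      rw [swap_apply_right, swap_apply_of_ne_of_ne h31 h30, hay 3, swap_apply_of_ne_of_ne h41 h40,
        swap_apply_of_ne_of_ne h43 h41, hay 4]
    rw [h1, Perm.one_apply] at h2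
    exact h51 h2.symm

end moved

section three

theorem conj_of_support {n : ℕ} {a b : Perm (Fin n)} (ha : orderOf a = 3) (hb : orderOf b = 3)
    (h : a.support.card = b.support.card) : ∃ σ : Perm (Fin n), a = σ * b * σ⁻¹ := by
  have key : ∀ c : Perm (Fin n), orderOf c = 3 → ∃ m, c.cycleType = Multiset.replicate m 3 ∧ c.support.card = 3 * m := by
    intro c hc
    obtain ⟨m, hm⟩ := cycleType_prime_order (σ := c) (by rw [hc]; exact Nat.prime_three)
    rw [hc] at hm
    refine ⟨m + 1, hm, ?_⟩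
    rw [← sum_cycleType, hm, Multiset.sum_replicate, smul_eq_mul, mul_comm]
  obtain ⟨m, hm, hm'⟩ := key a ha
  obtain ⟨k, hk, hk'⟩ := key b hb
  have hmk : m = k := by omega
  have h1 : IsConj b a := by
    rw [isConj_iff_cycleType_eq, hm, hk, hmk]
  obtain ⟨σ, hσ⟩ := isConj_iff.1 h1
  exact ⟨σ, hσ.symm⟩

theorem exists_of_conj {n : ℕ} {a a0 σ : Perm (Fin n)} (hσ : a = σ * a0 * σ⁻¹) {g0 : Perm (Fin n)}
    (hg0 : g0 ∈ alternatingGroup (Fin n)) (hq : (a0 * (g0 * a0 * g0⁻¹)) ^ 5 = 1) (h1 : a0 * (g0 * a0 * g0⁻¹) ≠ 1) :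
    ∃ g ∈ alternatingGroup (Fin n), ¬ PE 3 (a * (g * a * g⁻¹)) := by
  refine ⟨σ * g0 * σ⁻¹, ?_, ?_⟩
  · rw [mem_alternatingGroup] at hg0 ⊢
    rw [Perm.sign_mul, Perm.sign_mul, hg0, Perm.sign_inv, mul_one]
    exact Int.units_mul_self _
  · have e : a * (σ * g0 * σ⁻¹ * a * (σ * g0 * σ⁻¹)⁻¹) = σ * (a0 * (g0 * a0 * g0⁻¹)) * σ⁻¹ := by
      rw [hσ]; group
    rw [e]
    intro hPE
    have : Fact (Nat.Prime 3) := ⟨Nat.prime_three⟩
    have h2 := hPE.conj σ⁻¹
    have e2 : σ⁻¹ * (σ * (a0 * (g0 * a0 * g0⁻¹)) * σ⁻¹) * σ⁻¹⁻¹ = a0 * (g0 * a0 * g0⁻¹) := by group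
    rw [e2] at h2
    apply h1
    refine h2.eq_one fun h3 => ?_
    have h4 := h3.trans (orderOf_dvd_of_pow_eq_one hq)
    revert h4
    decide

theorem case_five {a : Perm (Fin 5)} (ha : orderOf a = 3) :
    ∃ g ∈ alternatingGroup (Fin 5), ¬ PE 3 (a * (g * a * g⁻¹)) := by
  have : Fact (Nat.Prime 3) := ⟨Nat.prime_three⟩
  obtain ⟨a0, ha0⟩ : ∃ a0 : Perm (Fin 5), a0 = swap 0 1 * swap 1 2 := ⟨_, rfl⟩
  have h0 : orderOf a0 = 3 := by
    rw [ha0]; exact orderOf_eq_prime (by decide) (by decide)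
  have h1 : a0.support.card = 3 := by rw [ha0]; decide
  have h2 : a.support.card = 3 := by
    obtain ⟨m, hm⟩ := cycleType_prime_order (σ := a) (by rw [ha]; exact Nat.prime_three)
    rw [ha] at hm
    have h3 : a.support.card = 3 * (m + 1) := by
      rw [← sum_cycleType, hm, Multiset.sum_replicate, smul_eq_mul, mul_comm]
    have h4 : a.support.card ≤ 5 := by
      have := Finset.card_le_univ a.support
      rwa [Fintype.card_fin] at this
    omega
  obtain ⟨σ, hσ⟩ := conj_of_support ha h0 (by rw [h1, h2])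
  rw [ha0] at hσ
  exact exists_of_conj hσ (g0 := swap 0 3 * swap 1 4) (by rw [mem_alternatingGroup]; decide) (by decide +kernel)
    (by decide +kernel)

theorem case_six {a : Perm (Fin 6)} (ha : orderOf a = 3) (hf : ∀ x, a x ≠ x) :
    ∃ g ∈ alternatingGroup (Fin 6), ¬ PE 3 (a * (g * a * g⁻¹)) := by
  have : Fact (Nat.Prime 3) := ⟨Nat.prime_three⟩
  obtain ⟨a0, ha0⟩ : ∃ a0 : Perm (Fin 6), a0 = swap 0 1 * swap 1 2 * (swap 3 4 * swap 4 5) := ⟨_, rfl⟩
  have h0 : orderOf a0 = 3 := by
    rw [ha0]; exact orderOf_eq_prime (by decide) (by decide)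
  have h1 : a0.support.card = 6 := by rw [ha0]; decide
  have h2 : a.support.card = 6 := by
    have h3 : a.support = Finset.univ := Finset.eq_univ_iff_forall.2 fun x => mem_support.2 (hf x)
    rw [h3, Finset.card_univ, Fintype.card_fin]
  obtain ⟨σ, hσ⟩ := conj_of_support ha h0 (by rw [h1, h2])
  rw [ha0] at hσ
  exact exists_of_conj hσ (g0 := swap 0 1 * swap 0 3) (by rw [mem_alternatingGroup]; decide) (by decide +kernel)
    (by decide +kernel)

end three

/-- **The `AA` problem for the alternating groups.** -/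
theorem core_alt (n : ℕ) (hn : 5 ≤ n) : Core (alternatingGroup (Fin n)) := by
  classical
  have hc : Subgroup.center (alternatingGroup (Fin n)) = ⊥ :=
    alternatingGroup.center_eq_bot (by rw [Nat.card_eq_fintype_card, Fintype.card_fin]; omega)
  refine core_of_inner hc ?_ ?_
  · intro p hp hp2 x hx
    obtain ⟨g, hg⟩ := H256.RowAlt.four_inner hn x
    have h4 : Nat.Coprime 4 p := by
      have h2 : Nat.Coprime 2 p := (Nat.coprime_primes Nat.prime_two hp.out).2 (Ne.symm hp2)
      exact Nat.Coprime.pow_left 2 h2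
    obtain ⟨m, hm⟩ := Nat.exists_mul_mod_eq_one_of_coprime h4 hp.out.one_lt
    refine ⟨g ^ m, ?_⟩
    rw [map_pow, ← hg, ← pow_mul]
    rw [← pow_mod_orderOf, hx]
    rw [show (4 * m) % p = 1 from hm.2, pow_one]
  · intro p hp hp2 a ha hR hP
    have ha' : orderOf (a : Perm (Fin n)) = p := by rw [Subgroup.orderOf_coe, ha]
    -- it is enough to find a bad conjugate
    have bad : ¬ ∃ g ∈ alternatingGroup (Fin n), ¬ PE p ((a : Perm (Fin n)) * (g * a * g⁻¹)) := by
      rintro ⟨g, hg, h⟩
      exact h (PE.coe.2 (hP ⟨g, hg⟩))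
    have ha1 : (a : Perm (Fin n)) ≠ 1 := by
      intro h
      rw [h, orderOf_one] at ha'
      exact hp.out.one_lt.ne ha'
    obtain ⟨w, hw⟩ : ∃ w, (a : Perm (Fin n)) w ≠ w := by
      by_contra hcon
      push Not at hcon
      exact ha1 (Equiv.ext hcon)
    have hp3 : 3 ≤ p := by have := hp.out.two_le; omega
    rcases Nat.lt_or_ge 3 p with h3 | h3
    · -- `p ≥ 5`
      have h5 : 5 ≤ p := by
        rcases Nat.lt_or_ge p 5 with h | h
        · have : p = 4 := by omega
          subst this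
          exact absurd hp.out (by decide)
        · exact h
      obtain ⟨Δ, hΔ, hwΔ, hinv⟩ := exists_orbit ha' hw
      have hle : Δ.card ≤ n := by
        have := Finset.card_le_univ Δ
        rwa [Fintype.card_fin] at this
      rcases Nat.lt_or_ge p n with hlt | hge
      · exact hw (fix_of_RC hR (by omega) (by omega) (fun x hx => (hinv x).1 hx) w hwΔ)
      · have : p = n := by omega
        subst this
        exact bad (cycle_case ha' h5 hw)
    · have : p = 3 := by omega
      subst this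
      rcases Nat.lt_or_ge n 6 with h6 | h6
      · have : n = 5 := by omega
        subst this
        exact bad (case_five ha')
      · -- no fixed points
        have hfix : ∀ x, (a : Perm (Fin n)) x ≠ x := by
          intro x hx
          have hwx : w ≠ x := fun h => hw (h ▸ hx)
          refine hw (fix_of_RC hR (Δ := Finset.univ.erase x) ?_ ?_ ?_ w ?_)
          · rw [Finset.card_erase_of_mem (Finset.mem_univ _), Finset.card_univ, Fintype.card_fin]; omega
          · rw [Finset.card_erase_of_mem (Finset.mem_univ _), Finset.card_univ, Fintype.card_fin]; omega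
          · intro y hy
            refine Finset.mem_erase.2 ⟨fun h => (Finset.ne_of_mem_erase hy) ?_, Finset.mem_univ _⟩
            exact (a : Perm (Fin n)).injective (h.trans hx.symm)
          · exact Finset.mem_erase.2 ⟨hwx, Finset.mem_univ _⟩
        obtain ⟨Δ, hΔ, hwΔ, hinv⟩ := exists_orbit ha' hw
        rcases Nat.lt_or_ge n 8 with h8 | h8
        · have h67 : n = 6 ∨ n = 7 := by omega
          rcases h67 with h67 | h67
          · subst h67
            exact bad (case_six ha' hfix)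
          · subst h67
            -- `7` is not divisible by `3`
            have h1 : (a : Perm (Fin 7)).support.card = 7 := by
              have h3 : (a : Perm (Fin 7)).support = Finset.univ :=
                Finset.eq_univ_iff_forall.2 fun x => mem_support.2 (hfix x)
              rw [h3, Finset.card_univ, Fintype.card_fin]
            obtain ⟨m, hm⟩ := cycleType_prime_order (σ := (a : Perm (Fin 7))) (by rw [ha']; exact Nat.prime_three)
            rw [ha'] at hm
            have h3 : (a : Perm (Fin 7)).support.card = 3 * (m + 1) := by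
              rw [← sum_cycleType, hm, Multiset.sum_replicate, smul_eq_mul, mul_comm]
            omega
        · obtain ⟨v, hv⟩ : ∃ v, v ∉ Δ := by
            by_contra hcon
            push Not at hcon
            rw [Finset.eq_univ_iff_forall.2 hcon, Finset.card_univ, Fintype.card_fin] at hΔ
            omega
          refine hfix v (fix_of_RC hR (Δ := Finset.univ \ Δ) ?_ ?_ ?_ v ?_)
          · rw [Finset.card_sdiff_of_subset (Finset.subset_univ _), Finset.card_univ, Fintype.card_fin, hΔ]; omega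
          · rw [Finset.card_sdiff_of_subset (Finset.subset_univ _), Finset.card_univ, Fintype.card_fin, hΔ]; omega
          · intro y hy
            rw [Finset.mem_sdiff] at hy ⊢
            exact ⟨Finset.mem_univ _, fun h => hy.2 ((hinv y).2 h)⟩
          · exact Finset.mem_sdiff.2 ⟨Finset.mem_univ _, hv⟩

end Cfsg.Agent.H491.AA
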